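import Mathlib
import Cfsg.Prelude.Def_GeometricClasses
import Cfsg.Prelude.Def_Classical
import Cfsg.Agent.Lib.Helper16.SpinG2
import Cfsg.Agent.Lib.Helper16.SpinG

set_option autoImplicit false

/-!
# Shared block SQM (designer helper15): isometries `x` with `x ^ 2 = -1` of a quadratic space, `2 ≠ 0`.
Serves the `r = 2` clauses of S5973, S5987, S5989, S5990, S5991 (the conditions `q mod 8`).

Case 1 (`-1 = i0 ^ 2`): `V = E_{i0} ⊕ E_{-i0}`, both totally singular: a hyperbolic eigen-frame `Frame1`.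
Case 3 (`-1` not a square): `V` is an orthogonal sum of `x`-invariant anisotropic planes `⟨v_j, x v_j⟩`: `Frame3`.
-/

namespace Cfsg.Agent.Lib.helper15.SQM

open Matrix

variable {ι : Type} [Fintype ι] [DecidableEq ι] {F : Type*} [Field F]

/-- hyperbolic eigen-frame of `x` (case `-1 = i0 ^ 2`): `e i`, `f i` dual singular vectors, `x e = i0 e`, `x f = - i0 f`. -/
structure Frame1 (Q : QuadraticForm F (ι → F)) (x : Matrix ι ι F) (i0 : F) (d : ℕ)
    (e f : Fin d → (ι → F)) : Prop where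
  qe : ∀ i, Q (e i) = 0
  qf : ∀ i, Q (f i) = 0
  ee : ∀ i j, QuadraticMap.polar (⇑Q) (e i) (e j) = 0
  ff : ∀ i j, QuadraticMap.polar (⇑Q) (f i) (f j) = 0
  ef : ∀ i j, QuadraticMap.polar (⇑Q) (e i) (f j) = if i = j then 1 else 0
  xe : ∀ i, x *ᵥ e i = i0 • e i
  xf : ∀ i, x *ᵥ f i = (-i0) • f i
  card : Fintype.card ι = 2 * d

/-- orthogonal frame of `x`-invariant planes `⟨v j, x v j⟩` (case `-1` not a square); the remaining orthogonality
relations follow from `x` being an isometry with `x ^ 2 = -1` (`polar (v j) (x v j) = 0`, `Q (x v j) = Q (v j)`). -/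
structure Frame3 (Q : QuadraticForm F (ι → F)) (x : Matrix ι ι F) (d : ℕ) (v : Fin d → (ι → F)) : Prop where
  qv : ∀ j, Q (v j) ≠ 0
  vv : ∀ j k, j ≠ k → QuadraticMap.polar (⇑Q) (v j) (v k) = 0
  vx : ∀ j k, j ≠ k → QuadraticMap.polar (⇑Q) (v j) (x *ᵥ v k) = 0
  card : Fintype.card ι = 2 * d

end Cfsg.Agent.Lib.helper15.SQM
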